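import Groth.Agent.Lib.Branch14.GUBaseChange
import Groth.Agent.Lib.Branch14.FibreRing
import Groth.Agent.Lib.Branch14.Corollaries
import Groth.Agent.Lib.GeomRed18.Perfect
import Groth.Agent.S2691

/-!
# Geometric unibranchness of tensor products of local algebras over a perfect field
-/

set_option backward.isDefEq.respectTransparency.types false
set_option linter.style.haveILetI false
set_option linter.unusedSectionVars false
set_option maxSynthPendingDepth 5

universe u

open scoped TensorProduct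
open IsLocalRing

namespace Groth.Agent.Branch14At27

open Groth.Agent.Branch14 Groth.Agent.Branch14.GUT

variable {R B T N : Type u} [CommRing R] [CommRing B] [Algebra R B] [CommRing T] [Algebra R T]
  [Module.Flat R T] [CommRing N] [IsDomain N] [Algebra R N] [Algebra B N] [IsScalarTower R B N]

/-- Geometric unibranchness at one prime after flat base change, from that of the normalization at the primes over it. -/
theorem isGeomUnibranch_tensor_at [IsLocalRing B] [IsLocalRing N] [Algebra.IsIntegral B N]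
    (hker : RingHom.ker (algebraMap B N) ≤ nilradical B)
    (hfrac : ∀ x : N, ∃ b c : B, algebraMap B N b ≠ 0 ∧ algebraMap B N b * x = algebraMap B N c)
    (hPI : Bir.PI ((residue N).comp (algebraMap B N)))
    (q : Ideal (B ⊗[R] T)) [q.IsPrime]
    (hN : ∀ (Q : Ideal (N ⊗[R] T)) [Q.IsPrime],
      Q.comap (nmap (B := B) (N := N) : B ⊗[R] T →ₐ[R] N ⊗[R] T).toRingHom = q →
      CAlg2.IsGeomUnibranch (Localization.AtPrime Q))
    (hq : q.comap (algebraMap B (B ⊗[R] T)) = maximalIdeal B) :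
    CAlg2.IsGeomUnibranch (Localization.AtPrime q) := by
  let Φ : B ⊗[R] T →ₐ[R] N ⊗[R] T := nmap
  letI : Algebra (B ⊗[R] T) (N ⊗[R] T) := Φ.toRingHom.toAlgebra
  haveI hint : Algebra.IsIntegral (B ⊗[R] T) (N ⊗[R] T) := ⟨fun z => by
    induction z using TensorProduct.induction_on with
    | zero => exact isIntegral_zero
    | add x y hx hy => exact hx.add hy
    | tmul x t =>
      have h : x ⊗ₜ[R] t = (x ⊗ₜ 1) * Φ ((1 : B) ⊗ₜ t) := by
        simp [Φ, nmap, Algebra.TensorProduct.tmul_mul_tmul]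
      rw [h]
      refine IsIntegral.mul ?_ (isIntegral_algebraMap (x := (1 : B) ⊗ₜ[R] t))
      obtain ⟨P, hP, hPx⟩ := Algebra.IsIntegral.isIntegral (R := B) x
      refine ⟨P.map (algebraMap B (B ⊗[R] T)), hP.map _, ?_⟩
      have h1 := congrArg (Algebra.TensorProduct.includeLeftRingHom : N →+* N ⊗[R] T) hPx
      rw [Polynomial.hom_eval₂, map_zero] at h1
      rw [Polynomial.eval₂_map]
      rwa [show (algebraMap (B ⊗[R] T) (N ⊗[R] T)).comp (algebraMap B (B ⊗[R] T)) =
        (Algebra.TensorProduct.includeLeftRingHom : N →+* N ⊗[R] T).comp (algebraMap B N) from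
        RingHom.ext fun b => by simp [RingHom.algebraMap_toAlgebra, Φ, nmap]]⟩
  have hkΦ : RingHom.ker (algebraMap (B ⊗[R] T) (N ⊗[R] T)) ≤ nilradical (B ⊗[R] T) := ker_nmap hker
  have hbase : ∀ b : B, Φ (b ⊗ₜ (1 : T)) = algebraMap N (N ⊗[R] T) (algebraMap B N b) := fun b => by
    simp [Φ, nmap]
  -- denominators avoid minimal primes
  have havoidB : ∀ p ∈ minimalPrimes (B ⊗[R] T), ∀ b : B, algebraMap B N b ≠ 0 → b ⊗ₜ[R] (1 : T) ∉ p := by
    intro p hp b hb hmem
    have hmin := comap_mem_minimalPrimes_of_flat (R := B) (T := B ⊗[R] T) p hp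
    haveI : (RingHom.ker (algebraMap B N)).IsPrime := RingHom.ker_isPrime _
    have hle : RingHom.ker (algebraMap B N) ≤ p.comap (algebraMap B (B ⊗[R] T)) := by
      haveI := hmin.1.1
      exact hker.trans (nilradical_le_prime _)
    exact hb (RingHom.mem_ker.1 (hmin.2 ⟨inferInstance, bot_le⟩ hle hmem))
  have havoidN : ∀ Q ∈ minimalPrimes (N ⊗[R] T), ∀ b : B, algebraMap B N b ≠ 0 →
      Φ (b ⊗ₜ (1 : T)) ∉ Q := by
    intro Q hQ b hb hmem
    rw [hbase] at hmem
    have hmin := comap_mem_minimalPrimes_of_flat (R := N) (T := N ⊗[R] T) Q hQ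
    exact hb ((Ideal.mem_bot).1 (hmin.2 ⟨Ideal.isPrime_bot, bot_le⟩ bot_le hmem))
  have hlie : ∀ (p : Ideal (B ⊗[R] T)) [p.IsPrime], ∃ Q : Ideal (N ⊗[R] T), Q.IsPrime ∧
      Q.comap (algebraMap (B ⊗[R] T) (N ⊗[R] T)) = p := fun p _ => by
    obtain ⟨Q, -, hQ, hQp⟩ := Ideal.exists_ideal_over_prime_of_isIntegral (S := N ⊗[R] T) p ⊥
      (show RingHom.ker (algebraMap (B ⊗[R] T) (N ⊗[R] T)) ≤ p from hkΦ.trans (nilradical_le_prime p))
    exact ⟨Q, hQ, hQp⟩
  have hb : Bir.IsBir (B ⊗[R] T) (N ⊗[R] T) := by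
    refine ⟨fun Q hQ => ?_, fun Q Q' _ _ hQm heq => ?_, fun p hp => ?_, fun Q _ hQm z => ?_⟩
    · haveI := hQ.1.1
      obtain ⟨p₁, hp₁, hle⟩ := Ideal.exists_minimalPrimes_le (I := (⊥ : Ideal (B ⊗[R] T)))
        (J := Q.comap (algebraMap (B ⊗[R] T) (N ⊗[R] T))) bot_le
      haveI := hp₁.1.1
      obtain ⟨Q', hQ', hQ'p⟩ := hlie p₁
      have hsub : Q' ≤ Q := by
        intro y hy
        obtain ⟨b, w, hb, hw⟩ := exists_denom hfrac y
        have h1 : w ∈ p₁ := by
          rw [← hQ'p, Ideal.mem_comap]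
          show nmap w ∈ Q'
          rw [← hw]
          exact Q'.mul_mem_left _ hy
        have h2 : nmap (b ⊗ₜ[R] (1 : T)) * y ∈ Q := by rw [hw]; exact hle h1
        exact (Ideal.IsPrime.mem_or_mem inferInstance h2).resolve_left (havoidN Q hQ b hb)
      have : Q' = Q := le_antisymm hsub (hQ.2 ⟨hQ', bot_le⟩ hsub)
      rw [← this, hQ'p]
      exact hp₁
    · ext y
      obtain ⟨b, w, hb, hw⟩ := exists_denom hfrac y
      have hmem : ∀ (P : Ideal (N ⊗[R] T)) [P.IsPrime],
          P.comap (algebraMap (B ⊗[R] T) (N ⊗[R] T)) ∈ minimalPrimes (B ⊗[R] T) →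
          (y ∈ P ↔ w ∈ P.comap (algebraMap (B ⊗[R] T) (N ⊗[R] T))) := fun P _ hP => by
        rw [Ideal.mem_comap, show algebraMap (B ⊗[R] T) (N ⊗[R] T) w = nmap w from rfl, ← hw]
        exact ⟨fun h => P.mul_mem_left _ h, fun h =>
          (Ideal.IsPrime.mem_or_mem inferInstance h).resolve_left (havoidB _ hP b hb)⟩
      rw [hmem Q hQm, hmem Q' (heq ▸ hQm), heq]
    · haveI := hp.1.1
      exact hlie p
    · obtain ⟨b, w, hb, hw⟩ := exists_denom hfrac z
      refine ⟨w, b ⊗ₜ (1 : T), havoidB _ hQm b hb, ?_⟩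
      show z * nmap (b ⊗ₜ[R] (1 : T)) - nmap w ∈ Q
      rw [mul_comm, hw, sub_self]
      exact Q.zero_mem
  -- radiciality over `q`
  let e := ringExpChar (ResidueField N)
  have hover : ∀ (Q : Ideal (N ⊗[R] T)) [Q.IsPrime],
      Q.comap (algebraMap (B ⊗[R] T) (N ⊗[R] T)) = q → Q.comap (algebraMap N (N ⊗[R] T)) = maximalIdeal N := by
    intro Q _ hQ
    haveI : ((Q.comap (algebraMap N (N ⊗[R] T))).comap (algebraMap B N)).IsMaximal := by
      have : (Q.comap (algebraMap N (N ⊗[R] T))).comap (algebraMap B N) = maximalIdeal B := by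
        rw [← hq, ← hQ, Ideal.comap_comap, Ideal.comap_comap]
        exact congrArg (fun φ => Ideal.comap φ Q) (RingHom.ext fun b => (hbase b).symm)
      rw [this]
      infer_instance
    exact IsLocalRing.eq_maximalIdeal (Ideal.isMaximal_of_isIntegral_of_isMaximal_comap _ ‹_›)
  have hrad : ∀ z : N ⊗[R] T, ∃ (n : ℕ) (w : B ⊗[R] T), ∀ (Q : Ideal (N ⊗[R] T)) [Q.IsPrime],
      Q.comap (algebraMap (B ⊗[R] T) (N ⊗[R] T)) = q → z ^ e ^ n - Φ w ∈ Q := by
    intro z
    induction z using TensorProduct.induction_on with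
    | zero =>
      refine ⟨0, 0, fun Q _ _ => ?_⟩
      simp
    | tmul x t =>
      obtain ⟨n, b, hb⟩ := hPI (residue N x)
      refine ⟨n, b ⊗ₜ (t ^ e ^ n), fun Q _ hQ => ?_⟩
      have h1 : algebraMap B N b - x ^ e ^ n ∈ maximalIdeal N := by
        rw [← residue_eq_zero_iff, map_sub, map_pow, sub_eq_zero]
        exact hb
      rw [← hover Q hQ, Ideal.mem_comap] at h1
      have h2 := Q.mul_mem_right ((1 : N) ⊗ₜ (t ^ e ^ n)) (Q.neg_mem h1)
      rw [show -(algebraMap N (N ⊗[R] T) (algebraMap B N b - x ^ e ^ n)) * ((1 : N) ⊗ₜ (t ^ e ^ n)) =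
        (x ⊗ₜ t) ^ e ^ n - Φ (b ⊗ₜ (t ^ e ^ n)) by
          simp only [map_sub, neg_sub, sub_mul, Algebra.TensorProduct.algebraMap_apply,
            Algebra.algebraMap_self, RingHom.id_apply, Algebra.TensorProduct.tmul_mul_tmul,
            mul_one, one_mul, Algebra.TensorProduct.tmul_pow]
          simp [Φ, nmap]] at h2
      exact h2
    | add x y hx hy =>
      obtain ⟨n, w, hw⟩ := hx
      obtain ⟨m, w', hw'⟩ := hy
      refine ⟨n + m, w ^ e ^ m + w' ^ e ^ n, fun Q _ hQ => ?_⟩
      haveI : ExpChar ((N ⊗[R] T) ⧸ Q) e := by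
        let ψ : ResidueField N →+* (N ⊗[R] T) ⧸ Q :=
          Ideal.quotientMap Q (algebraMap N (N ⊗[R] T)) (hover Q hQ).ge
        haveI : ExpChar (ResidueField N) e := inferInstanceAs (ExpChar _ (ringExpChar _))
        exact expChar_of_injective_ringHom ψ.injective e
      have h1 := Ideal.Quotient.eq.2 (hw Q hQ)
      have h2 := Ideal.Quotient.eq.2 (hw' Q hQ)
      rw [map_pow] at h1 h2
      rw [← Ideal.Quotient.eq, map_pow, map_add, add_pow_expChar_pow, map_add, map_add, map_pow, map_pow,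
        map_pow, map_pow, ← h1, ← h2, ← pow_mul, ← pow_mul, ← pow_add, ← pow_add, Nat.add_comm m n]
  obtain ⟨Q₀, hQ₀, hQ₀q⟩ := hlie q
  have hepos : ∀ n, 0 < e ^ n := fun n => by
    haveI : ExpChar (ResidueField N) e := inferInstanceAs (ExpChar _ (ringExpChar _))
    exact Nat.pow_pos (expChar_pos (ResidueField N) e)
  have huniq : ∀ Q : Ideal (N ⊗[R] T), Q.IsPrime →
      Q.comap (algebraMap (B ⊗[R] T) (N ⊗[R] T)) = q → Q = Q₀ := by
    intro Q hQ hQq
    ext y
    obtain ⟨n, w, hw⟩ := hrad y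
    have key : ∀ (P : Ideal (N ⊗[R] T)) [P.IsPrime],
        P.comap (algebraMap (B ⊗[R] T) (N ⊗[R] T)) = q → (y ∈ P ↔ w ∈ q) := fun P hP hPq => by
      rw [← hPq, Ideal.mem_comap]
      have h := hw P hPq
      constructor
      · intro hy
        exact (P.sub_mem_iff_right (P.pow_mem_of_mem hy _ (hepos n))).1 h
      · intro hww
        exact hP.mem_of_pow_mem _ ((P.sub_mem_iff_left hww).1 h)
    rw [key Q hQq, key Q₀ hQ₀q]
  let φ := Localization.localRingHom q Q₀ (algebraMap (B ⊗[R] T) (N ⊗[R] T)) hQ₀q.symm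
  refine (Bir.isGeomUnibranch_iff hb Q₀ hQ₀q huniq (O := Localization.AtPrime Q₀) φ ?_).2
    ⟨hN Q₀ hQ₀q, fun x => ?_⟩
  · exact RingHom.ext fun r => Localization.localRingHom_to_map q Q₀ _ hQ₀q.symm r
  · obtain ⟨d, rfl⟩ := residue_surjective x
    obtain ⟨y, t, rfl⟩ := IsLocalization.exists_mk'_eq Q₀.primeCompl d
    obtain ⟨n, w, hw⟩ := hrad y
    obtain ⟨m, w', hw'⟩ := hrad (t : N ⊗[R] T)
    have hw'q : w' ∉ q := fun h => t.2 (hQ₀.mem_of_pow_mem _
      ((Q₀.sub_mem_iff_left (hQ₀q.ge h)).1 (hw' Q₀ hQ₀q)))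
    haveI : ExpChar (ResidueField (Localization.AtPrime Q₀)) e := by
      let ψ : ResidueField N →+* ResidueField (Localization.AtPrime Q₀) :=
        Ideal.quotientMap (maximalIdeal (Localization.AtPrime Q₀))
          ((algebraMap (N ⊗[R] T) (Localization.AtPrime Q₀)).comp (algebraMap N (N ⊗[R] T))) (fun z hz => by
            rw [Ideal.mem_comap, RingHom.comp_apply, IsLocalization.AtPrime.to_map_mem_maximal_iff _ Q₀,
              ← Ideal.mem_comap, hover Q₀ hQ₀q]
            exact hz)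
      haveI : ExpChar (ResidueField N) e := inferInstanceAs (ExpChar _ (ringExpChar _))
      exact expChar_of_injective_ringHom ψ.injective e
    let ev : N ⊗[R] T →+* ResidueField (Localization.AtPrime Q₀) :=
      (residue _).comp (algebraMap _ _)
    have hev : ∀ v : B ⊗[R] T, residue _ (φ (algebraMap _ _ v)) = ev (Φ v) := fun v =>
      congrArg (residue _) (Localization.localRingHom_to_map q Q₀ _ hQ₀q.symm v)
    have hzero : ∀ v, ev v = 0 ↔ v ∈ Q₀ := fun v =>
      (residue_eq_zero_iff _).trans (IsLocalization.AtPrime.to_map_mem_maximal_iff _ Q₀ v)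
    have e1 : ev y ^ e ^ n = ev (Φ w) := by
      rw [← map_pow, ← sub_eq_zero, ← map_sub, hzero]; exact hw Q₀ hQ₀q
    have e2 : ev (t : N ⊗[R] T) ^ e ^ m = ev (Φ w') := by
      rw [← map_pow, ← sub_eq_zero, ← map_sub, hzero]; exact hw' Q₀ hQ₀q
    have ht : ev (t : N ⊗[R] T) ≠ 0 := fun h => t.2 ((hzero _).1 h)
    refine ⟨n + m, IsLocalization.mk' _ (w ^ e ^ m)
      (⟨w' ^ e ^ n, fun h => hw'q (Ideal.IsPrime.mem_of_pow_mem ‹_› _ h)⟩ : q.primeCompl), ?_⟩
    rw [ringExpChar.eq (ResidueField (Localization.AtPrime Q₀)) e]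
    set u := IsLocalization.mk' (Localization.AtPrime q) (w ^ e ^ m)
      (⟨w' ^ e ^ n, fun h => hw'q (Ideal.IsPrime.mem_of_pow_mem ‹_› _ h)⟩ : q.primeCompl) with hu
    have h1 : residue _ (φ u) * ev (Φ (w' ^ e ^ n)) = ev (Φ (w ^ e ^ m)) := by
      rw [← hev, ← hev, ← map_mul, ← map_mul]
      exact congrArg (fun z => residue _ (φ z)) (IsLocalization.mk'_spec _ _ _)
    have h2 : residue _ (IsLocalization.mk' (Localization.AtPrime Q₀) y t) * ev (t : N ⊗[R] T) = ev y :=
      (map_mul _ _ _).symm.trans (congrArg (residue _) (IsLocalization.mk'_spec _ _ _))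
    rw [map_pow, map_pow, map_pow, map_pow, ← e1, ← e2, ← h2, mul_pow, mul_pow, ← pow_mul, ← pow_mul,
      ← pow_mul, ← pow_add, ← pow_add, Nat.add_comm m n] at h1
    exact mul_right_cancel₀ (pow_ne_zero _ ht) h1

/-- The version with the canonical normalization. -/
theorem isGeomUnibranch_tensor_normRed_at [IsLocalRing B] (hB : CAlg2.IsGeomUnibranch B)
    (q : Ideal (B ⊗[R] T)) [q.IsPrime]
    (hq : q.comap (algebraMap B (B ⊗[R] T)) = maximalIdeal B)
    (hN : ∀ (Q : Ideal (CAlg2.normRed B ⊗[R] T)) [Q.IsPrime],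
      Q.comap (Algebra.TensorProduct.includeRight : T →ₐ[R] CAlg2.normRed B ⊗[R] T).toRingHom =
        q.comap (Algebra.TensorProduct.includeRight : T →ₐ[R] B ⊗[R] T).toRingHom →
      CAlg2.IsGeomUnibranch (Localization.AtPrime Q)) :
    CAlg2.IsGeomUnibranch (Localization.AtPrime q) := by
  haveI := hB.1.1
  haveI := hB.1.2
  haveI := isIntegral_normRed B
  haveI : IsScalarTower R B (CAlg2.normRed B) := IsScalarTower.of_algebraMap_eq fun r => rfl
  have hinj : Function.Injective (algebraMap (CAlg2.red B) (CAlg2.normRed B)) := fun x y h =>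
    IsFractionRing.injective (CAlg2.red B) (FractionRing (CAlg2.red B)) (congrArg Subtype.val h)
  refine isGeomUnibranch_tensor_at (N := CAlg2.normRed B) ?_ (fun x => ?_)
    (fun x => hB.2 (maximalIdeal (CAlg2.normRed B)) x) q (fun Q _ hQ => hN Q ?_) hq
  · intro b hb
    exact Ideal.Quotient.eq_zero_iff_mem.1 (hinj (hb.trans (map_zero _).symm))
  · obtain ⟨c, b, hb, hcb⟩ := IsFractionRing.div_surjective (A := CAlg2.red B) x.1
    obtain ⟨c, rfl⟩ := Ideal.Quotient.mk_surjective c
    obtain ⟨b, rfl⟩ := Ideal.Quotient.mk_surjective b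
    have hb' : algebraMap (CAlg2.red B) (FractionRing (CAlg2.red B)) (Ideal.Quotient.mk _ b) ≠ 0 :=
      IsFractionRing.to_map_ne_zero_of_mem_nonZeroDivisors hb
    refine ⟨b, c, fun h => hb' (congrArg Subtype.val h), Subtype.ext ?_⟩
    show algebraMap (CAlg2.red B) _ (Ideal.Quotient.mk _ b) * x.1 = algebraMap (CAlg2.red B) _ (Ideal.Quotient.mk _ c)
    rw [← hcb, mul_div_cancel₀ _ hb']
  · rw [← hQ, Ideal.comap_comap]
    exact congrArg (fun φ => Ideal.comap φ Q) (RingHom.ext fun t => by simp [nmap])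

theorem isGeomUnibranch_of_ringEquiv {A A' : Type u} [CommRing A] [IsLocalRing A] [CommRing A']
    [IsLocalRing A'] (e : A ≃+* A') (h : CAlg2.IsGeomUnibranch A) : CAlg2.IsGeomUnibranch A' := by
  rw [← numGeomBranches_eq_one_iff] at h ⊢
  rw [← numGeomBranches_of_ringEquiv e, h]

/-- Over a perfect field, the tensor product of two geometrically unibranch local algebras is
geometrically unibranch at a prime lying over both closed points. -/
theorem isGeomUnibranch_tensor_atPrime {k A B : Type u} [Field k] [PerfectField k]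
    [CommRing A] [IsLocalRing A] [Algebra k A] [CommRing B] [IsLocalRing B] [Algebra k B]
    (hA : CAlg2.IsGeomUnibranch A) (hB : CAlg2.IsGeomUnibranch B)
    (q : Ideal (A ⊗[k] B)) [q.IsPrime]
    (hqA : q.comap (Algebra.TensorProduct.includeLeft : A →ₐ[k] A ⊗[k] B).toRingHom = maximalIdeal A)
    (hqB : q.comap (Algebra.TensorProduct.includeRight : B →ₐ[k] A ⊗[k] B).toRingHom = maximalIdeal B) :
    CAlg2.IsGeomUnibranch (Localization.AtPrime q) := by
  refine isGeomUnibranch_tensor_normRed_at hA q hqA fun Q _ hQ => ?_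
  let e : B ⊗[k] CAlg2.normRed A ≃ₐ[k] CAlg2.normRed A ⊗[k] B := Algebra.TensorProduct.comm k _ _
  let Q' : Ideal (B ⊗[k] CAlg2.normRed A) := Q.comap e.toRingEquiv.toRingHom
  haveI : Q'.IsPrime := Ideal.IsPrime.comap _
  have hQ' : Q'.comap (algebraMap B (B ⊗[k] CAlg2.normRed A)) = maximalIdeal B := by
    rw [← hqB, ← hQ, Ideal.comap_comap]
    exact congrArg (fun φ => Ideal.comap φ Q) (RingHom.ext fun b => by simp [e])
  have hu : CAlg2.IsGeomUnibranch (Localization.AtPrime Q') := by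
    refine isGeomUnibranch_tensor_normRed_at hB Q' hQ' fun P _ _ => ?_
    haveI := hA.1.1
    haveI := hB.1.1
    haveI := isIntegrallyClosed_normRed A
    haveI := isIntegrallyClosed_normRed B
    have hgr : ∀ (F : Type u) [CommRing F] [Algebra k F] [IsReduced F],
        Algebra.IsGeometricallyReduced k F := fun F _ _ _ => by
      haveI : IsReduced (F ⊗[k] k) := isReduced_of_injective (Algebra.TensorProduct.rid k k F).toAlgHom
        (Algebra.TensorProduct.rid k k F).injective
      exact GeomRed.isGeometricallyReduced_of_perfect k F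
    haveI := hgr (FractionRing (CAlg2.normRed A))
    haveI := hgr (FractionRing (CAlg2.normRed B))
    obtain ⟨h1, h2⟩ := S2691.result k (CAlg2.normRed B) (CAlg2.normRed A) P
    haveI := h1
    haveI := h2
    exact isGeomUnibranch_of_isIntegrallyClosed _
  refine isGeomUnibranch_of_ringEquiv ?_ hu
  exact (Localization.localRingEquiv Q' Q e.toRingEquiv rfl)

end Groth.Agent.Branch14At27
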